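import Cfsg.Agent.H203.LSDef
import Cfsg.Agent.H264.CoverOver

/-!
# A lower bound for degrees from a Heisenberg group of order `p ^ 3` with fused centre (helper388)

`heis_le`: `a, b, c` with `c` central of order `p`, `b a = a b c`, and elements `k i` with `c (k i) = (k i) c ^ (e i)`,
`e i` pairwise different and nonzero mod `p`: every representation (characteristic `≠ p`) with `c` acting nontrivially
has dimension at least `p * |ι|`.

`LS.of_rep`: `LS r d T` for a group `T` with trivial multiplier from the representations of `T` itself.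
-/

set_option autoImplicit false

universe u v w

namespace Cfsg.Agent.H388.EP

open Cfsg Cfsg.Agent.H203.LS

section

variable {G : Type u} [Group G] {K : Type w} [Field K] [IsAlgClosed K] {V : Type w} [AddCommGroup V] [Module K V]
  [FiniteDimensional K V]

theorem heis_le (ρ : G →* (V →ₗ[K] V)) {p : ℕ} (hp : p.Prime) (hpK : (p : K) ≠ 0) {a b c : G} (hc : c ^ p = 1)
    (hac : a * c = c * a) (hbc : b * c = c * b) (hba : b * a = a * b * c) (hρ : ρ c ≠ 1)
    {ι : Type} [Fintype ι] (k : ι → G) (e : ι → ℕ) (he : ∀ i, c * k i = k i * c ^ e i)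
    (hinj : Function.Injective fun i => (e i : ZMod p)) (he0 : ∀ i, (e i : ZMod p) ≠ 0) :
    Fintype.card ι * p ≤ Module.finrank K V := by
  classical
  have hfact : Fact p.Prime := ⟨hp⟩
  have hρc : ρ c ^ p = 1 := by rw [← map_pow, hc, map_one]
  obtain ⟨s, hs, v0, hv0, hv⟩ := exists_eigen (k := K) (V := V) hpK hρc hρ
  have hinvρ : ∀ (g : G) (v : V), v ≠ 0 → ρ g v ≠ 0 := by
    intro g v hv h
    apply hv
    have : ρ g⁻¹ (ρ g v) = v := by rw [← Module.End.mul_apply, ← map_mul, inv_mul_cancel, map_one, Module.End.one_apply]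
    rw [← this, h, map_zero]
  have hpow : ∀ (g : G) (t : K) (v : V), ρ g v = t • v → ∀ n : ℕ, ρ (g ^ n) v = t ^ n • v := by
    intro g t v h n
    induction n with
    | zero => simp
    | succ n ih => rw [pow_succ, map_mul, Module.End.mul_apply, h, map_smul, ih, smul_smul, pow_succ, mul_comm]
  -- `s` has order `p`
  have hsp : s ^ p = 1 := by
    have h1 := hpow c s v0 hv p
    rw [hc, map_one, Module.End.one_apply] at h1
    have h2 : (s ^ p - 1) • v0 = 0 := by rw [sub_smul, one_smul, ← h1, sub_self]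
    exact sub_eq_zero.1 ((smul_eq_zero.1 h2).resolve_right hv0)
  have hso : orderOf s = p := orderOf_eq_prime hsp hs
  have hpe : ∀ m n : ℕ, s ^ m = s ^ n → (m : ZMod p) = n := by
    intro m n h
    have hs0 : s ≠ 0 := by
      rintro rfl
      rw [zero_pow hp.ne_zero] at hsp
      exact zero_ne_one hsp
    have h1 : (Units.mk0 s hs0) ^ m = (Units.mk0 s hs0) ^ n := by
      apply Units.ext
      rw [Units.val_pow_eq_pow_val, Units.val_pow_eq_pow_val]
      exact h
    rw [pow_eq_pow_iff_modEq, ← orderOf_units, Units.val_mk0, hso] at h1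
    exact (ZMod.natCast_eq_natCast_iff _ _ _).2 h1
  -- joint eigenvectors
  have hE : ∀ i, ∃ (v : V) (μ : K), v ≠ 0 ∧ ρ c v = s ^ e i • v ∧ ρ a v = μ • v := by
    intro i
    have h1 : ρ (k i) v0 ∈ Module.End.eigenspace (ρ c) (s ^ e i) := by
      rw [Module.End.mem_eigenspace_iff, ← Module.End.mul_apply, ← map_mul, he, map_mul, Module.End.mul_apply,
        hpow c s v0 hv, map_smul]
    have hne : Module.End.eigenspace (ρ c) (s ^ e i) ≠ ⊥ := by
      intro h
      rw [h, Submodule.mem_bot] at h1
      exact hinvρ _ _ hv0 h1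
    have hinv : ∀ x ∈ Module.End.eigenspace (ρ c) (s ^ e i), ρ a x ∈ Module.End.eigenspace (ρ c) (s ^ e i) := by
      intro x hx
      rw [Module.End.mem_eigenspace_iff] at hx ⊢
      rw [← Module.End.mul_apply, ← map_mul, ← hac, map_mul, Module.End.mul_apply, hx, map_smul]
    have : Nontrivial (Module.End.eigenspace (ρ c) (s ^ e i)) := Submodule.nontrivial_iff_ne_bot.2 hne
    obtain ⟨μ, hμ⟩ := Module.End.exists_eigenvalue ((ρ a).restrict hinv)
    obtain ⟨x, hx⟩ := hμ.exists_hasEigenvector
    refine ⟨x, μ, fun h => hx.2 (Subtype.ext h), Module.End.mem_eigenspace_iff.1 x.2, ?_⟩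
    exact congrArg Subtype.val hx.apply_eq_smul
  choose v μ hv0' hvc hva using hE
  have hbj : ∀ j : ℕ, a * b ^ j = b ^ j * a * c ^ ((p - 1) * j) := by
    intro j
    have hcc : ∀ m : ℕ, c ^ m * c ^ ((p - 1) * m) = 1 := by
      intro m
      rw [← pow_add]
      have : m + (p - 1) * m = p * m := by
        have := hp.pos
        obtain ⟨q, rfl⟩ : ∃ q, p = q + 1 := ⟨p - 1, by omega⟩
        rw [Nat.add_sub_cancel]
        ring
      rw [this, pow_mul, hc, one_pow]
    have hbc' : ∀ m : ℕ, c ^ m * b = b * c ^ m := fun m => ((show Commute b c from hbc).symm.pow_left m).eq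
    have hac' : ∀ m : ℕ, c ^ m * a = a * c ^ m := fun m => ((show Commute a c from hac).symm.pow_left m).eq
    have h1 : ∀ j : ℕ, b ^ j * a = a * b ^ j * c ^ j := by
      intro j
      induction j with
      | zero => simp
      | succ j ih =>
        calc b ^ (j + 1) * a = b * (b ^ j * a) := by rw [pow_succ']; group
          _ = b * (a * b ^ j * c ^ j) := by rw [ih]
          _ = (b * a) * b ^ j * c ^ j := by group
          _ = a * b * (c * b ^ j) * c ^ j := by rw [hba]; group
          _ = a * b * (b ^ j * c) * c ^ j := by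
              rw [((show Commute b c from hbc).symm.pow_right j).eq]
          _ = _ := by rw [pow_succ', pow_succ']; group
    rw [h1, mul_assoc, hcc, mul_one]
  -- the weights
  have key := card_le_of_weights (k := K) (V := V) (ι := ι × Fin p) (J := Bool)
    (fun t => if t then ρ c else ρ a) (fun q => ρ (b ^ (q.2 : ℕ)) (v q.1))
    (fun q t => if t then s ^ e q.1 else (s ^ e q.1) ^ ((p - 1) * (q.2 : ℕ)) * μ q.1)
    (fun q => hinvρ _ _ (hv0' q.1)) ?_ ?_
  · rwa [Nat.card_prod, Nat.card_eq_fintype_card, Nat.card_fin] at key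
  · rintro ⟨i, j⟩ t
    cases t with
    | true =>
      simp only [if_true]
      rw [← Module.End.mul_apply, ← map_mul, ((show Commute b c from hbc).symm.pow_right (j : ℕ)).eq, map_mul,
        Module.End.mul_apply, hvc, map_smul]
    | false =>
      simp only [Bool.false_eq_true, if_false]
      rw [← Module.End.mul_apply, ← map_mul, hbj, map_mul, Module.End.mul_apply, hpow c _ _ (hvc i), map_smul, map_mul,
        Module.End.mul_apply, hva, map_smul, smul_smul]
  · rintro ⟨i, j⟩ ⟨i', j'⟩ h
    have h1 : s ^ e i = s ^ e i' := by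
      have := congrFun h true
      simpa using this
    have hi : i = i' := hinj (hpe _ _ h1)
    subst hi
    have h2 : (s ^ e i) ^ ((p - 1) * (j : ℕ)) * μ i = (s ^ e i) ^ ((p - 1) * (j' : ℕ)) * μ i := by
      have := congrFun h false
      simpa using this
    have hμ : μ i ≠ 0 := by
      intro h0
      apply hinvρ a (v i) (hv0' i)
      rw [hva, h0, zero_smul]
    have h3 := mul_right_cancel₀ hμ h2
    rw [← pow_mul, ← pow_mul] at h3
    have h4 := hpe _ _ h3
    push_cast at h4
    have h5 : ((e i : ZMod p)) * (((p - 1 : ℕ)) : ZMod p) ≠ 0 := by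
      refine mul_ne_zero (he0 i) ?_
      rw [Nat.cast_sub hp.one_lt.le, ZMod.natCast_self, Nat.cast_one, zero_sub]
      exact neg_ne_zero.2 one_ne_zero
    rw [← mul_assoc, ← mul_assoc] at h4
    have h6 := mul_left_cancel₀ h5 h4
    have h7 : (j : ℕ) = j' := by
      have := (ZMod.natCast_eq_natCast_iff _ _ _).1 h6
      exact Nat.ModEq.eq_of_lt_of_lt this j.2 j'.2
    exact Prod.ext rfl (Fin.ext h7)

end

/-- groups with trivial multiplier: the representations of the group itself are enough -/
theorem ls_of_rep {r d : ℕ} {T : Type u} [Group T] (hT : HasCyclicSchurMultiplier T 1)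
    (h : ∀ (K : Type w) [Field K] [IsAlgClosed K] (V : Type w) [AddCommGroup V] [Module K V]
      [FiniteDimensional K V] (ρ : T →* (V →ₗ[K] V)), (r : K) ≠ 0 → (∃ g, ρ g ≠ 1) → d ≤ Module.finrank K V) :
    LS.{u, v, w} r d T := by
  apply LS.of_core
  intro P _ π k _ _ V _ _ _ ρ hC
  have h1 := Cfsg.Agent.H264.CoverOver.card_ker_dvd hT hC.perf π hC.surj hC.cen
  rw [Nat.card_congr (Multiplicative.toAdd (α := ZMod 1)), Nat.card_zmod, Nat.dvd_one] at h1
  have h2 : π.ker = ⊥ := Subgroup.card_eq_one.1 h1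
  let e : P ≃* T := MulEquiv.ofBijective π ⟨(MonoidHom.ker_eq_bot_iff π).1 h2, hC.surj⟩
  refine h k V (ρ.comp e.symm.toMonoidHom) hC.rk ?_
  obtain ⟨g, hg⟩ := hC.ne
  exact ⟨e g, by
    show ρ (e.symm (e g)) ≠ 1
    rwa [e.symm_apply_apply]⟩

end Cfsg.Agent.H388.EP
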