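import Cfsg.Agent.H388.EP.JFourLS
import Cfsg.Agent.H419.EP.Big
import Cfsg.Agent.H991.EP.Crude
import Cfsg.Agent.S2068

/-!
# S3499, layer V, the socle `J₄` (helper388)
-/

set_option autoImplicit false

namespace Cfsg.Agent.H388.EP

open Cfsg Cfsg.Agent.H203.LS Cfsg.Agent.H419.EP Cfsg.Agent.H284 Cfsg.Agent.H991.EP

section

variable {Q : Type} [Group Q] [Finite Q] {A : Subgroup Q} {Γ : Subgroup (MulAut Q)} {ι : Type} [Fintype ι]
    [DecidableEq ι] {F : Type} [Field F] [Fintype F] {S P : Subgroup (GL ι F)}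

/-- lower bounds for projective degrees apply to the core -/
theorem le_of_ls (b : Big A Γ S P) {L : Type} [Group L] (e : socle P ≃* L) {r d : ℕ} (h : LS.{0, 0, 0} r d L)
    (hr : (r : F) ≠ 0) : d ≤ Fintype.card ι := by
  classical
  have hfin : Finite P := inferInstance
  let π : P →* L := e.toMonoidHom.comp (QuotientGroup.mk' ((Cfsg.Geo.scalars ι F).subgroupOf P))
  have hker : π.ker = (Cfsg.Geo.scalars ι F).subgroupOf P := by
    ext x
    rw [MonoidHom.mem_ker]
    show e (QuotientGroup.mk' _ x) = 1 ↔ _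
    rw [map_eq_one_iff e e.injective]
    exact QuotientGroup.eq_one_iff x
  let ρ : P →* GL (Fin (Fintype.card ι)) F :=
    (Units.mapEquiv (Matrix.reindexAlgEquiv F F (Fintype.equivFin ι) :
      Matrix ι ι F ≃ₐ[F] _).toMulEquiv).toMonoidHom.comp P.subtype
  refine h P π (e.surjective.comp (QuotientGroup.mk'_surjective _)) ?_ ?_ F hr (Fintype.card ι) ρ ?_
  · rw [hker]
    intro x hx
    rw [Subgroup.mem_center_iff]
    intro y
    apply Subtype.ext
    obtain ⟨c, hc⟩ := (Cfsg.Geo.mem_scalars_iff _).1 (Subgroup.mem_subgroupOf.1 hx)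
    apply Units.ext
    show ((y : GL ι F) : Matrix ι ι F) * ((x : GL ι F) : Matrix ι ι F) =
      ((x : GL ι F) : Matrix ι ι F) * ((y : GL ι F) : Matrix ι ι F)
    rw [hc, Matrix.mul_smul, Matrix.smul_mul, mul_one, one_mul]
  · have h1 := b.core.perfect
    apply Subgroup.map_injective P.subtype_injective
    rw [commutator_def, Subgroup.map_commutator, ← MonoidHom.range_eq_map, Subgroup.range_subtype]
    exact h1
  · intro h1
    apply b.core.nonabelian
    have h2 : ∀ x : P, x = 1 := by
      intro x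
      have h3 := DFunLike.congr_fun h1 x
      apply P.subtype_injective
      apply (Units.mapEquiv (Matrix.reindexAlgEquiv F F (Fintype.equivFin ι) :
        Matrix ι ι F ≃ₐ[F] _).toMulEquiv).injective
      rw [map_one, map_one]
      exact h3
    constructor
    constructor
    intro x y
    obtain ⟨x, rfl⟩ := QuotientGroup.mk_surjective x
    obtain ⟨y, rfl⟩ := QuotientGroup.mk_surjective y
    rw [h2 x, h2 y]

end

theorem card_aut_J4 : Nat.card (MulAut Spor.J4) ∣ Nat.card Spor.J4 := by
  have h1 : (Inn Spor.J4).index = 1 := S2068.result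
  have h2 : Function.Surjective (MulAut.conj : Spor.J4 →* MulAut Spor.J4) := by
    rw [← MonoidHom.range_eq_top]
    exact Subgroup.index_eq_one.1 h1
  exact Subgroup.card_dvd_of_surjective _ h2

theorem om_J4 : Om 86775571046077562880 ≤ 34 := by
  have h : (86775571046077562880 : ℕ) = 2 ^ 21 * 3 ^ 3 * 5 * 7 * 11 ^ 3 * 23 * 29 * 31 * 37 * 43 := by norm_num
  have hp : ∀ p k : ℕ, p.Prime → Om (p ^ k) = k := by
    intro p k hp
    show (p ^ k).primeFactorsList.length = k
    rw [hp.primeFactorsList_pow, List.length_replicate]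
  have h1 : ∀ p : ℕ, p.Prime → Om p = 1 := by
    intro p hp
    show p.primeFactorsList.length = 1
    rw [Nat.primeFactorsList_prime hp]
    rfl
  rw [h]
  rw [Om_mul, Om_mul, Om_mul, Om_mul, Om_mul, Om_mul, Om_mul, Om_mul, Om_mul, hp 2, hp 3, h1 5, h1 7, hp 11, h1 23,
    h1 29, h1 31, h1 37, h1 43]
  all_goals norm_num

theorem num_one : 8 * (86775571046077562880 * sb 86775571046077562880 34 ^ 2) < 2 ^ (110 * (110 - 1) / 2) := by
  decide +kernel

theorem num_two : 8 * (86775571046077562880 * sb 86775571046077562880 34 ^ 2) < 11 ^ (64 * (64 - 1) / 2) := by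
  decide +kernel

/-- **The socle `J₄` in the residual class, dimension at least 13.** -/
theorem row_J4 {Q : Type} [Group Q] [Finite Q] {A : Subgroup Q} {Γ : Subgroup (MulAut Q)} {ι : Type} [Fintype ι]
    [DecidableEq ι] {F : Type} [Field F] [Fintype F] {S P : Subgroup (GL ι F)} (b : Big A Γ S P)
    (h : Spor.IsoJ4 (socle P)) : False := by
  obtain ⟨e⟩ := h
  have hcard : Nat.card Spor.J4 = 86775571046077562880 := S1703.result.2
  obtain ⟨f, hf⟩ := (b.hasSoc' e).exists_hom
  have hA : Nat.card A ∣ 86775571046077562880 := by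
    rw [← hcard]
    exact (Subgroup.card_dvd_of_injective f hf).trans card_aut_J4
  have h1 := index_le_sb b.ept (by norm_num) hA om_J4
  have h2 : Nat.card Q ≤ 86775571046077562880 * sb 86775571046077562880 34 ^ 2 := by
    rw [← A.card_mul_index]
    exact Nat.mul_le_mul (Nat.le_of_dvd (by norm_num) hA) h1
  by_cases h11 : ((11 : ℕ) : F) = 0
  · -- characteristic 11
    have hcp : CharP F 11 := by
      obtain ⟨p, hp⟩ := CharP.exists F
      have h3 : p ∣ 11 := (CharP.cast_eq_zero_iff F p 11).1 h11
      rcases (Nat.dvd_prime (by norm_num : Nat.Prime 11)).1 h3 with rfl | rfl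
      · exact absurd ((CharP.cast_eq_zero_iff F 1 1).2 dvd_rfl) (by rw [Nat.cast_one]; exact one_ne_zero)
      · exact hp
    have h2F : ((2 : ℕ) : F) ≠ 0 := by
      intro h3
      have := (CharP.cast_eq_zero_iff F 11 2).1 h3
      omega
    have hn := le_of_ls b e ls_two h2F
    have h11F : 11 ≤ Fintype.card F := by
      have := Fact.mk (by norm_num : Nat.Prime 11)
      obtain ⟨k, -, hk⟩ := FiniteField.card F 11
      rw [hk]
      exact Nat.le_self_pow k.2.ne' 11
    have h3 : 11 ^ (64 * (64 - 1) / 2) ≤ 8 * Nat.card Q := by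
      refine le_trans ?_ b.ord
      have h5 : 0 < Fintype.card F := Fintype.card_pos
      refine le_trans (Nat.pow_le_pow_left h11F _) (Nat.pow_le_pow_right h5 ?_)
      apply Nat.div_le_div_right
      exact Nat.mul_le_mul hn (by omega)
    have h4 := num_two
    exact absurd (h3.trans (Nat.mul_le_mul_left 8 h2)) (not_le.2 h4)
  · have hn := le_of_ls b e ls_eleven h11
    have h3 := b.ord_two hn
    have h4 := num_one
    exact absurd (h3.trans (Nat.mul_le_mul_left 8 h2)) (not_le.2 h4)

end Cfsg.Agent.H388.EP
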