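import Cfsg.Agent.H388.EP.Heis
import Cfsg.Agent.H859.ClassEleven
import Cfsg.Agent.H337.JankoOfIso
import Cfsg.Agent.H861.ExtraRep
import Cfsg.Agent.S2042

/-!
# Degrees of representations of `J₄` (helper388): at least 110 in characteristic `≠ 11`, at least 64 in odd
characteristic
-/

set_option autoImplicit false

universe u v w

namespace Cfsg.Agent.H388.EP

open Cfsg Cfsg.Agent.H203.LS Cfsg.Agent.H859

theorem simple_J4 : IsSimpleGroup Spor.J4 := (KFacts.J4.Base.exists_full ⟨MulEquiv.refl _⟩).2.1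

/-- a nontrivial representation of a simple group is faithful -/
theorem rep_inj {G : Type u} [Group G] [IsSimpleGroup G] {K V : Type*} [Field K] [AddCommGroup V] [Module K V]
    (ρ : G →* (V →ₗ[K] V)) (h : ∃ g, ρ g ≠ 1) : Function.Injective ρ := by
  have h1 : Function.Injective ρ.toHomUnits := by
    rw [← MonoidHom.ker_eq_bot_iff]
    rcases (MonoidHom.normal_ker ρ.toHomUnits).eq_bot_or_eq_top with h1 | h1
    · exact h1
    · exfalso
      obtain ⟨g, hg⟩ := h
      apply hg
      have h2 : g ∈ ρ.toHomUnits.ker := by rw [h1]; exact Subgroup.mem_top _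
      exact congrArg Units.val (MonoidHom.mem_ker.1 h2)
  intro a b hab
  exact h1 (Units.ext hab)

theorem ls_eleven : LS.{0, v, w} 11 110 Spor.J4 := by
  refine ls_of_rep S2042.result ?_
  intro K _ _ V _ _ _ ρ h11 hρ
  have := simple_J4
  have h1 : ρ NU.c ≠ 1 := by
    intro h
    exact NU.rel.w1 (rep_inj ρ hρ (by rw [h, map_one]))
  have h2 := heis_le ρ (by norm_num : Nat.Prime 11) (by exact_mod_cast h11) NU.rel.wp NU.rel.aw NU.rel.bw NU.rel.ba h1
    (ι := Fin 10) (fun i => (NU.k ^ (i : ℕ))⁻¹) (fun i => 6 ^ (i : ℕ)) ?_ ?_ ?_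
  · rwa [Fintype.card_fin] at h2
  · intro i
    rw [← ClassEleven.k_pow]
    group
  · intro i j hij
    have : ∀ i j : Fin 10, ((6 ^ (i : ℕ) : ℕ) : ZMod 11) = ((6 ^ (j : ℕ) : ℕ) : ZMod 11) → i = j := by decide
    exact this i j hij
  · decide

theorem ls_two : LS.{0, v, w} 2 64 Spor.J4 := by
  refine ls_of_rep S2042.result ?_
  intro K _ _ V _ _ _ ρ h2 hρ
  have := simple_J4
  obtain ⟨z, P, -, hE, hc, -⟩ := H337.isOfJankoFourType_of_isoJ4 (G := Spor.J4) ⟨MulEquiv.refl _⟩
  exact H861.ExtraRep.dim_bound (w := 6) hE (by rw [hc]) (by exact_mod_cast h2)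
    (ρ.comp (Subgroup.subtype _)) ((rep_inj ρ hρ).comp (Subgroup.subtype_injective _))

end Cfsg.Agent.H388.EP
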